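import Mathlib
import Groth.Agent.Lib.Helper5.QFDual.DiscrEtale

set_option autoImplicit false
universe u v

namespace Groth.Agent.Lib.Helper5.TrEt

section
variable {A : Type u} {M : Type v} [CommRing A] [AddCommGroup M] [Module A M]
  {ι : Type*} [Fintype ι] [DecidableEq ι] (b : Module.Basis ι A M)

/-- a bilinear form is bijective (as a map to the dual) iff its Gram determinant is a unit. -/
theorem bijective_iff_isUnit_det (T : M →ₗ[A] M →ₗ[A] A) :
    Function.Bijective T ↔ IsUnit (Matrix.det (Matrix.of fun i j => T (b i) (b j))) := by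
  let T' : M →ₗ[A] Module.Dual A M := T
  let G : Matrix ι ι A := LinearMap.toMatrix b b.dualBasis T'
  have hG : G = (Matrix.of fun i j => T (b i) (b j)).transpose := by
    ext i j
    simp only [G, LinearMap.toMatrix_apply, Matrix.transpose_apply, Matrix.of_apply]
    rw [Module.Basis.dualBasis_repr]
  rw [← Matrix.det_transpose, ← hG, ← Matrix.isUnit_iff_isUnit_det]
  constructor
  · intro hT
    let e : M ≃ₗ[A] Module.Dual A M := LinearEquiv.ofBijective T' hT
    refine ⟨⟨G, LinearMap.toMatrix b.dualBasis b e.symm.toLinearMap, ?_, ?_⟩, rfl⟩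
    · rw [← LinearMap.toMatrix_comp b.dualBasis b b.dualBasis]
      have : T' ∘ₗ e.symm.toLinearMap = LinearMap.id := by
        ext x : 1
        exact e.apply_symm_apply x
      rw [this, LinearMap.toMatrix_id]
    · rw [← LinearMap.toMatrix_comp b b.dualBasis b]
      have : e.symm.toLinearMap ∘ₗ T' = LinearMap.id := by
        ext x : 1
        exact e.symm_apply_apply x
      rw [this, LinearMap.toMatrix_id]
  · rintro ⟨⟨G1, N, h1, h2⟩, hG1⟩
    change G1 = G at hG1
    rw [hG1] at h1 h2
    let S : Module.Dual A M →ₗ[A] M := Matrix.toLin b.dualBasis b N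
    have hTS : T' ∘ₗ S = LinearMap.id := by
      have : T' = Matrix.toLin b b.dualBasis G := (Matrix.toLin_toMatrix b b.dualBasis T').symm
      rw [this, ← Matrix.toLin_mul b.dualBasis b b.dualBasis, h1, Matrix.toLin_one]
    have hST : S ∘ₗ T' = LinearMap.id := by
      have : T' = Matrix.toLin b b.dualBasis G := (Matrix.toLin_toMatrix b b.dualBasis T').symm
      rw [this, ← Matrix.toLin_mul b b.dualBasis b, h2, Matrix.toLin_one]
    refine ⟨?_, ?_⟩
    · intro x y hxy
      have hx := LinearMap.congr_fun hST x
      have hy := LinearMap.congr_fun hST y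
      simp only [LinearMap.comp_apply, LinearMap.id_apply] at hx hy
      rw [← hx, ← hy]
      exact congrArg S hxy
    · intro y
      exact ⟨S y, LinearMap.congr_fun hTS y⟩

end

theorem main (A B : Type u) [CommRing A] [CommRing B] [Algebra A B]
    [Module.Finite A B] [Module.Free A B] :
    Algebra.Etale A B ↔ Function.Bijective (Algebra.traceForm A B) := by
  classical
  let b := Module.Free.chooseBasis A B
  rw [H5QFDual.etale_iff_isUnit_discr b, bijective_iff_isUnit_det b]
  rfl

end Groth.Agent.Lib.Helper5.TrEt
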